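import Cfsg.Agent.J4Rep94.P7
import Cfsg.Agent.J4Rep94.Orbit

/-!
# Certificate data
-/

set_option autoImplicit false
set_option maxRecDepth 100000

namespace Cfsg.Agent.J4Rep94.C18

open Cfsg.Agent.CosetEnum

def fxL0 : ℕ := 0x6000000007830005d000200800210002e8c0010c0007c20007a0000400005d0005c10002e0002d800016c001684000b4000b20000590005808002c0002b800015c001582000ac000aa0000550005410002a00029800014c001484000a4000a20000510005008002800027800013c0013820009c0009a00004d0004c10002600025800012c00128400094000920000490004808002400023800011c0011820008c0008a0000450004410002200004840010c0010800008400082200041000400000200001f84000fc000f800007c0007a20003d0000110001e0001d80000ec000e8200074000720000390003810001c0001b80000dc000d840006c0006a0000350003408001a0001980000cc000c840006400062000031000300800180001780000bc000b820005c0005a00002d0002c1000160001580000ac000a8200054000520000290002808001400013800009c0009840004c0004a0000250002408001200011800008c0008820004400042000021000200800100000f800007c0007840003c0003a00001d0001c08000e0000d800006c00068400034000320000190001810000c0000b800005c0005820002c0002a0000150001410000a00009800004c00048200024000220000110001008000800007800003c0003840001c0001a00000d0000c08000600005800002c00028200014000120000090000810000400003800001c0001820000c0000a0000050000408000200001800000c000082000040000200000100000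
def fx : PTree := (.leaf fxL0)
def rules0 : DTree Rule := (.node 2 (.node 1 (.leaf ⟨1, [1], [2], false, 3, 0⟩) (.leaf ⟨3, [0,1,0,1,0,2,0,1,0,1,0,2,0,1,0,1,0,2,0,1,0,2,0,2,0,1,0,2,0], [1,0,1,0,2,0,1], false, 8, 0⟩)) (.node 1 (.leaf ⟨1, [0,2,0,2,0,1,0,1,0,2,0,2,0,1,0,1,0,2,0,2,0,1,0,1,0,2,0,2,0], [2,0,2,0,1,0,1,0,2,0], false, 6, 0⟩) (.node 1 (.leaf ⟨3, [1], [2,2], false, 3, 0⟩) (.leaf ⟨3, [0,1,0,1,0,2,0,1,0,1,0,2,0,1,0,1,0,2,0,1,0,2,0,2,0,1,0,2], [1,0,1,0,2,0,1,0], false, 8, 0⟩))))
def rules : DTree Rule := rules0
def sys : Sys := ⟨3, 0x18440, fx, rules⟩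
def rels : List (List ℕ) := baseRels ++ []
def subs : List (List ℕ) := []

end Cfsg.Agent.J4Rep94.C18
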